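import Mathlib.RingTheory.Polynomial.Cyclotomic.Factorization
import Mathlib.RingTheory.AdjoinRoot
import Mathlib.FieldTheory.Finite.Basic
import Mathlib.LinearAlgebra.Dimension.Finite
import Mathlib.Algebra.Module.ZMod

/-!
# An operator of prime order without fixed points, conjugate to all its powers

* `mem_powers_of_transitive`: if semilinear maps move every vector everywhere and realise every
  twist `C ↦ C ^ i`, then `p` generates `(ZMod q)ˣ`.
* `exists_linear_transitive`, `exists_twist`: the converse constructions.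
-/

set_option linter.style.haveILetI false

namespace Cfsg.Agent.ThreeOrbits

open Polynomial

variable {p q : ℕ} [Fact p.Prime] [Fact q.Prime]
variable {V : Type*} [AddCommGroup V] [Module (ZMod p) V]

/-- `C ^ a`, for an exponent modulo `q`. -/
def powZ (C : Module.End (ZMod p) V) (a : ZMod q) : Module.End (ZMod p) V := C ^ a.val

variable {C : Module.End (ZMod p) V}

theorem pow_eq_powZ (hC : C ^ q = 1) (n : ℕ) : C ^ n = powZ C (n : ZMod q) := by
  rw [powZ, ZMod.val_natCast]
  exact pow_eq_pow_mod n hC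

theorem powZ_mul (hC : C ^ q = 1) (a b : ZMod q) : powZ C a * powZ C b = powZ C (a + b) := by
  rw [powZ, powZ, ← pow_add, pow_eq_powZ hC, Nat.cast_add, ZMod.natCast_zmod_val, ZMod.natCast_zmod_val]

theorem sum_powZ (hC : C ^ q = 1) (hfpf : ∀ v, C v = v → v = 0) :
    ∑ a : ZMod q, powZ C a = 0 := by
  ext u
  refine hfpf _ ?_
  rw [← Module.End.mul_apply, Finset.mul_sum]
  congr 1
  refine Fintype.sum_equiv (Equiv.addLeft (1 : ZMod q)) _ _ fun a => ?_
  show C * powZ C a = powZ C (1 + a)
  rw [← powZ_mul hC, ← Nat.cast_one, ← pow_eq_powZ hC, pow_one]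

theorem sum_powZ_mul (hC : C ^ q = 1) (hfpf : ∀ v, C v = v → v = 0) (m : ZMod q) :
    ∑ a : ZMod q, powZ C (a * m) = if m = 0 then (q : Module.End (ZMod p) V) else 0 := by
  split_ifs with hm
  · simp [hm, powZ]
  · rw [← sum_powZ hC hfpf]
    exact Fintype.sum_equiv (Equiv.mulRight₀ m hm) _ _ fun a => rfl

theorem map_powZ (hC : C ^ q = 1) {T : V →+ V} {i : ℕ} (hT : ∀ u, T (C u) = (C ^ i) (T u))
    (a : ZMod q) (u : V) : T (powZ C a u) = powZ C (a * (i : ZMod q)) (T u) := by
  have h : ∀ n : ℕ, ∀ u, T ((C ^ n) u) = (C ^ (i * n)) (T u) := by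
    intro n
    induction n with
    | zero => intro u; simp
    | succ n ih =>
      intro u
      rw [pow_succ, Module.End.mul_apply, ih, hT, ← Module.End.mul_apply, ← pow_add, Nat.mul_succ]
  rw [powZ, h, pow_eq_powZ hC]
  congr 1
  rw [Nat.cast_mul, ZMod.natCast_zmod_val, mul_comm]

variable (p q) in
/-- The residues of the powers of `p` modulo `q`. -/
noncomputable def powSet : Finset (ZMod q) :=
  (Finset.range (q - 1)).image fun n : ℕ => (p : ZMod q) ^ n

theorem p_ne_zero (hpq : p ≠ q) : (p : ZMod q) ≠ 0 := fun h =>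
  hpq (((Nat.prime_dvd_prime_iff_eq (Fact.out (p := q.Prime)) (Fact.out (p := p.Prime))).1
    ((ZMod.natCast_eq_zero_iff _ _).1 h)).symm)

theorem pow_mem_powSet (hpq : p ≠ q) (n : ℕ) : (p : ZMod q) ^ n ∈ powSet p q := by
  refine Finset.mem_image.2 ⟨n % (q - 1), Finset.mem_range.2 (Nat.mod_lt _ (Nat.sub_pos_of_lt
    (Fact.out (p := q.Prime)).one_lt)), ?_⟩
  exact (pow_eq_pow_mod n (ZMod.pow_card_sub_one_eq_one (p_ne_zero hpq))).symm

theorem mul_image_powSet (hpq : p ≠ q) :
    (powSet p q).image (fun j => (p : ZMod q) * j) = powSet p q := by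
  refine Finset.eq_of_subset_of_card_le (fun x hx => ?_) ?_
  · obtain ⟨y, hy, rfl⟩ := Finset.mem_image.1 hx
    obtain ⟨n, -, rfl⟩ := Finset.mem_image.1 hy
    rw [← pow_succ']
    exact pow_mem_powSet hpq _
  · rw [Finset.card_image_of_injective _ (mul_right_injective₀ (p_ne_zero hpq))]

/-- The period polynomial attached to the coset `a * powSet`. -/
noncomputable def periodPoly (p : ℕ) [Fact p.Prime] (q : ℕ) [Fact q.Prime] (a : ZMod q) :
    (ZMod p)[X] :=
  ∑ j ∈ powSet p q, X ^ (a * j).val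

/-- The period operator. -/
noncomputable def period (C : Module.End (ZMod p) V) (a : ZMod q) : Module.End (ZMod p) V :=
  ∑ j ∈ powSet p q, powZ C (a * j)

theorem period_eq_aeval (a : ZMod q) : period C a = aeval C (periodPoly p q a) := by
  simp [period, periodPoly, powZ]

theorem period_comm (a b : ZMod q) : period C a * period C b = period C b * period C a := by
  rw [period_eq_aeval, period_eq_aeval, ← map_mul, ← map_mul, mul_comm]

theorem period_pow (hpq : p ≠ q) (hC : C ^ q = 1) (a : ZMod q) :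
    period C a ^ p = period C a := by
  rw [period_eq_aeval, ← map_pow, ← ZMod.expand_card, periodPoly]
  simp only [map_sum, map_pow, expand_X, aeval_X]
  conv_rhs => rw [← mul_image_powSet (p := p) hpq,
    Finset.sum_image fun x _ y _ h => mul_right_injective₀ (p_ne_zero hpq) h]
  refine Finset.sum_congr rfl fun j _ => ?_
  rw [← pow_mul, pow_eq_powZ hC]
  conv_rhs => rw [pow_eq_powZ hC]
  congr 1
  rw [Nat.cast_mul, ZMod.natCast_zmod_val, ZMod.natCast_zmod_val]
  ring

theorem exists_eigen_of_prod {S : Module.End (ZMod p) V} (W : Submodule (ZMod p) V)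
    (hW : ∀ v ∈ W, S v ∈ W) (s : Multiset (ZMod p)) :
    ∀ v ∈ W, v ≠ 0 → aeval S (s.map fun c => X - Polynomial.C c).prod v = 0 →
      ∃ u ∈ W, u ≠ 0 ∧ ∃ c : ZMod p, S u = c • u := by
  induction s using Multiset.induction with
  | empty => intro v _ hv h; simp [hv] at h
  | cons c s ih =>
    intro v hv hv0 h
    rw [Multiset.map_cons, Multiset.prod_cons, mul_comm, map_mul, Module.End.mul_apply] at h
    have e : aeval S (X - Polynomial.C c) v = S v - c • v := by simp
    rw [e] at h
    by_cases h0 : S v - c • v = 0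
    · exact ⟨v, hv, hv0, c, sub_eq_zero.1 h0⟩
    · exact ih _ (W.sub_mem (hW v hv) (W.smul_mem c hv)) h0 h

theorem prod_X_sub_C_zmod :
    ((Finset.univ : Finset (ZMod p)).val.map fun c => X - Polynomial.C c).prod = X ^ p - X := by
  have h1 : (X ^ p - X : (ZMod p)[X]).roots = (Finset.univ : Finset (ZMod p)).val := by
    have := FiniteField.roots_X_pow_card_sub_X (ZMod p)
    rwa [ZMod.card] at this
  rw [← h1]
  refine prod_multiset_X_sub_C_of_monic_of_roots_card_eq ?_ ?_
  · exact monic_X_pow_sub (by simpa using (Fact.out (p := p.Prime)).one_lt)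
  · rw [h1, FiniteField.X_pow_card_sub_X_natDegree_eq _ (Fact.out (p := p.Prime)).one_lt,
      Finset.card_val, Finset.card_univ, ZMod.card]

theorem exists_common_eigen [Nontrivial V] (hpq : p ≠ q) (hC : C ^ q = 1)
    (t : Finset (ZMod q)) :
    ∃ v : V, v ≠ 0 ∧ ∀ a ∈ t, ∃ c : ZMod p, period C a v = c • v := by
  classical
  suffices H : ∃ (W : Submodule (ZMod p) V) (v : V), v ∈ W ∧ v ≠ 0 ∧
      (∀ b : ZMod q, ∀ u ∈ W, period C b u ∈ W) ∧
      ∀ a ∈ t, ∃ c : ZMod p, ∀ u ∈ W, period C a u = c • u by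
    obtain ⟨W, v, hv, hv0, -, h⟩ := H
    exact ⟨v, hv0, fun a ha => let ⟨c, hc⟩ := h a ha; ⟨c, hc v hv⟩⟩
  induction t using Finset.induction_on with
  | empty =>
    obtain ⟨v, hv⟩ := exists_ne (0 : V)
    exact ⟨⊤, v, trivial, hv, fun _ _ _ => trivial, by simp⟩
  | @insert a t _ ih =>
    obtain ⟨W, v, hv, hv0, hinv, h⟩ := ih
    obtain ⟨u, huW, hu0, c, hc⟩ := exists_eigen_of_prod W (hinv a) Finset.univ.val v hv hv0 (by
      rw [prod_X_sub_C_zmod, map_sub, map_pow, aeval_X, period_pow hpq hC, sub_self]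
      rfl)
    refine ⟨W ⊓ LinearMap.ker (period C a - c • 1), u, ⟨huW, by simp [hc]⟩, hu0,
      fun b w hw => ⟨hinv b w hw.1, ?_⟩, fun b hb => ?_⟩
    · have h2 : period C a w = c • w := by simpa [sub_eq_zero] using hw.2
      have h3 := congrArg (fun f : Module.End (ZMod p) V => f w) (period_comm (C := C) a b)
      simp only [Module.End.mul_apply] at h3
      simp [sub_eq_zero, h3, h2]
    · rcases Finset.mem_insert.1 hb with rfl | hb
      · exact ⟨c, fun w hw => by simpa [sub_eq_zero] using hw.2⟩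
      · obtain ⟨d, hd⟩ := h b hb
        exact ⟨d, fun w hw => hd w hw.1⟩

theorem exists_scalar (hC : C ^ q = 1) [Nontrivial V] (hpq : p ≠ q)
    (htr : ∀ v w : V, v ≠ 0 → w ≠ 0 → ∃ (T : V →+ V) (i : ℕ), (i : ZMod q) ≠ 0 ∧ T v = w ∧
      ∀ u, T (C u) = (C ^ i) (T u))
    (b : ZMod q) : ∃ c : ZMod p, ∀ w, period C b w = c • w := by
  obtain ⟨v, hv, hev⟩ := exists_common_eigen hpq hC Finset.univ
  have hall : ∀ w, ∃ c : ZMod p, period C b w = c • w := by
    intro w
    by_cases hw : w = 0
    · exact ⟨0, by simp [hw]⟩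
    obtain ⟨T, i, hi, hTv, hT⟩ := htr v w hv hw
    obtain ⟨c, hc⟩ := hev (b * (i : ZMod q)⁻¹) (Finset.mem_univ _)
    refine ⟨c, ?_⟩
    have h2 : T (period C (b * (i : ZMod q)⁻¹) v) = period C b w := by
      simp only [period, LinearMap.sum_apply, map_sum, map_powZ hC hT, hTv]
      exact Finset.sum_congr rfl fun j _ => by
        rw [show b * (i : ZMod q)⁻¹ * j * (i : ZMod q) = b * j by field_simp]
    rw [← h2, hc, ZMod.map_smul, hTv]
  obtain ⟨c, hc⟩ := hall v
  refine ⟨c, fun w => ?_⟩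
  obtain ⟨d, hd⟩ := hall w
  by_cases hdep : ∃ l : ZMod p, w = l • v
  · obtain ⟨l, rfl⟩ := hdep
    rw [map_smul, hc, smul_comm]
  obtain ⟨e, he⟩ := hall (v + w)
  rw [map_add, hc, hd] at he
  have h3 : (d - e) • w = (e - c) • v := by
    simp only [sub_smul]
    linear_combination (norm := module) he
  by_cases hde : d - e = 0
  · rw [hde, zero_smul, eq_comm, smul_eq_zero] at h3
    rw [hd, sub_eq_zero.1 hde, sub_eq_zero.1 (h3.resolve_right hv)]
  · refine absurd ⟨(d - e)⁻¹ * (e - c), ?_⟩ hdep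
    rw [← smul_smul, ← h3, smul_smul, inv_mul_cancel₀ hde, one_smul]

/-- The forward direction: every nonzero residue is a power of `p`. -/
theorem mem_powSet_of_transitive [Nontrivial V] (hpq : p ≠ q) (hC : C ^ q = 1)
    (hfpf : ∀ v, C v = v → v = 0)
    (htr : ∀ v w : V, v ≠ 0 → w ≠ 0 → ∃ (T : V →+ V) (i : ℕ), (i : ZMod q) ≠ 0 ∧ T v = w ∧
      ∀ u, T (C u) = (C ^ i) (T u))
    (htw : ∀ b : ZMod q, b ≠ 0 → ∃ (T : V →+ V), Function.Surjective T ∧
      ∀ u, T (C u) = (C ^ b.val) (T u))
    {b : ZMod q} (hb : b ≠ 0) : b ∈ powSet p q := by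
  classical
  have hshift : ∀ a : ZMod q, period C a = period C (a * b) := by
    intro a
    obtain ⟨c, hc⟩ := exists_scalar hC hpq htr a
    obtain ⟨T, hTs, hT⟩ := htw b hb
    refine LinearMap.ext fun w => ?_
    obtain ⟨u, rfl⟩ := hTs w
    have h2 : T (period C a u) = period C (a * b) (T u) := by
      simp only [period, LinearMap.sum_apply, map_sum, map_powZ hC hT]
      exact Finset.sum_congr rfl fun j _ => by rw [ZMod.natCast_zmod_val, mul_right_comm]
    rw [← h2, hc, hc, ZMod.map_smul]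
  by_contra hbP
  have hone : (1 : ZMod q) ∈ powSet p q := by simpa using pow_mem_powSet (q := q) hpq 0
  have key : ∀ (f : ZMod q → ZMod q) (l : ZMod q),
      ∑ a : ZMod q, powZ C (-(a * l)) * ∑ j ∈ powSet p q, powZ C (a * f j) =
        ∑ j ∈ powSet p q, if f j = l then (q : Module.End (ZMod p) V) else 0 := by
    intro f l
    simp only [Finset.mul_sum]
    rw [Finset.sum_comm]
    refine Finset.sum_congr rfl fun j _ => ?_
    rw [← if_congr sub_eq_zero rfl rfl, ← sum_powZ_mul hC hfpf]
    exact Finset.sum_congr rfl fun a _ => by rw [powZ_mul hC]; ring_nf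
  have h1 := key (fun j => j) b
  have h2 := key (fun j => b * j) b
  have hsame : ∀ a : ZMod q, ∑ j ∈ powSet p q, powZ C (a * (b * j)) =
      ∑ j ∈ powSet p q, powZ C (a * j) := fun a => by
    have := hshift a
    rw [period, period] at this
    rw [this]
    exact Finset.sum_congr rfl fun j _ => by rw [mul_assoc]
  simp only [hsame] at h2
  rw [h1, Finset.sum_ite_eq', if_neg hbP,
    Finset.sum_congr rfl fun j _ => if_congr (show b * j = b ↔ j = 1 by simp [hb]) rfl rfl,
    Finset.sum_ite_eq', if_pos hone] at h2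
  obtain ⟨v, hv⟩ := exists_ne (0 : V)
  have h3 := congrArg (fun f : Module.End (ZMod p) V => f v) h2
  simp only [LinearMap.zero_apply, Module.End.natCast_apply] at h3
  rw [← Nat.cast_smul_eq_nsmul (ZMod p), eq_comm, smul_eq_zero, ZMod.natCast_eq_zero_iff] at h3
  exact hpq ((Nat.prime_dvd_prime_iff_eq (Fact.out (p := p.Prime)) (Fact.out (p := q.Prime))).1
    (h3.resolve_right hv))

theorem orderOf_eq_of_transitive [Nontrivial V] (hpq : p ≠ q) (hC : C ^ q = 1)
    (hfpf : ∀ v, C v = v → v = 0)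
    (htr : ∀ v w : V, v ≠ 0 → w ≠ 0 → ∃ (T : V →+ V) (i : ℕ), (i : ZMod q) ≠ 0 ∧ T v = w ∧
      ∀ u, T (C u) = (C ^ i) (T u))
    (htw : ∀ b : ZMod q, b ≠ 0 → ∃ (T : V →+ V), Function.Surjective T ∧
      ∀ u, T (C u) = (C ^ b.val) (T u)) :
    orderOf (p : ZMod q) = q - 1 := by
  classical
  have hne := p_ne_zero (p := p) (q := q) hpq
  have hdvd := ZMod.orderOf_dvd_card_sub_one hne
  have hq1 : 0 < q - 1 := Nat.sub_pos_of_lt (Fact.out (p := q.Prime)).one_lt
  refine le_antisymm (Nat.le_of_dvd hq1 hdvd) ?_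
  have hsub : (Finset.univ.erase (0 : ZMod q)) ⊆
      (Finset.range (orderOf (p : ZMod q))).image fun n : ℕ => (p : ZMod q) ^ n := by
    intro b hb
    obtain ⟨n, -, rfl⟩ := Finset.mem_image.1
      (mem_powSet_of_transitive hpq hC hfpf htr htw (Finset.ne_of_mem_erase hb))
    exact Finset.mem_image.2 ⟨n % orderOf (p : ZMod q),
      Finset.mem_range.2 (Nat.mod_lt _ (Nat.pos_of_dvd_of_pos hdvd hq1)), pow_mod_orderOf _ n⟩
  have hc := (Finset.card_le_card hsub).trans Finset.card_image_le
  simpa [Finset.card_erase_of_mem, ZMod.card] using hc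

/-! ### The converse -/

theorem exists_equiv_apply_eq {K M : Type*} [Field K] [AddCommGroup M] [Module K M] {v w : M}
    (hv : v ≠ 0) (hw : w ≠ 0) : ∃ e : M ≃ₗ[K] M, e v = w := by
  obtain ⟨φ, hφv, hφw⟩ : ∃ φ : M →ₗ[K] K, φ v ≠ 0 ∧ φ w ≠ 0 := by
    obtain ⟨f, hf⟩ := Module.Projective.exists_dual_ne_zero K hv
    obtain ⟨g, hg⟩ := Module.Projective.exists_dual_ne_zero K hw
    by_cases h1 : f w = 0
    · by_cases h2 : g v = 0
      · exact ⟨f + g, by simp [h2, hf], by simp [h1, hg]⟩
      · exact ⟨g, h2, hg⟩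
    · exact ⟨f, hf, h1⟩
  let T : M →ₗ[K] M := LinearMap.id + ((φ v)⁻¹ • φ).smulRight (w - v)
  let T' : M →ₗ[K] M := LinearMap.id - ((φ w)⁻¹ • φ).smulRight (w - v)
  refine ⟨LinearEquiv.ofLinear T T' ?_ ?_, ?_⟩
  · refine LinearMap.ext fun z => ?_
    simp [T, T', smul_sub]
    match_scalars <;> field_simp <;> ring
  · refine LinearMap.ext fun z => ?_
    simp [T, T', smul_sub]
    match_scalars <;> field_simp <;> ring
  · show T v = w
    simp [T, inv_mul_cancel₀ hφv]

section Converse

variable [Finite V]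

/-- All the maps the converse needs: a transitive family commuting with `C`, and one twist by `p`. -/
theorem exists_maps (hpq : p ≠ q) (hC : C ^ q = 1) (hfpf : ∀ v, C v = v → v = 0)
    (hord : orderOf (p : ZMod q) = q - 1) :
    (∀ v w : V, v ≠ 0 → w ≠ 0 → ∃ T : V ≃+ V, T v = w ∧ ∀ u, T (C u) = C (T u)) ∧
    ∃ T : V ≃+ V, ∀ u, T (C u) = (C ^ p) (T u) := by
  classical
  have hq := Fact.out (p := q.Prime)
  have hp := Fact.out (p := p.Prime)
  haveI hirr : Fact (Irreducible (cyclotomic q (ZMod p))) := by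
    refine ⟨ZMod.irreducible_of_dvd_cyclotomic_of_natDegree
      (fun h => hpq ((Nat.prime_dvd_prime_iff_eq hp hq).1 h)) dvd_rfl ?_⟩
    rw [natDegree_cyclotomic, Nat.totient_prime hq, ← hord, ← orderOf_units]
    rfl
  have hΦ : aeval C (cyclotomic q (ZMod p)) = 0 := by
    rw [cyclotomic_prime, map_sum, ← sum_powZ (q := q) hC hfpf]
    refine Finset.sum_bij' (fun i _ => (i : ZMod q)) (fun a _ => a.val)
      (fun i _ => Finset.mem_univ _) (fun a _ => Finset.mem_range.2 (ZMod.val_lt a))
      (fun i hi => ZMod.val_natCast_of_lt (Finset.mem_range.1 hi))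
      (fun a _ => ZMod.natCast_zmod_val a) fun i hi => ?_
    rw [map_pow, aeval_X, pow_eq_powZ hC]
  let f : AdjoinRoot (cyclotomic q (ZMod p)) →+* Module.End (ZMod p) V :=
    Ideal.Quotient.lift _ (aeval C).toRingHom fun a ha => by
      obtain ⟨g, rfl⟩ := Ideal.mem_span_singleton.1 ha
      rw [AlgHom.toRingHom_eq_coe, RingHom.coe_coe, map_mul, hΦ, zero_mul]
  letI instM : Module (AdjoinRoot (cyclotomic q (ZMod p))) V := Module.compHom V f
  have hroot : ∀ u : V, AdjoinRoot.root (cyclotomic q (ZMod p)) • u = C u := fun u => by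
    show f (AdjoinRoot.root _) u = C u
    have : f (AdjoinRoot.root (cyclotomic q (ZMod p))) = C := (aeval_X C)
    rw [this]
  haveI : Module.Finite (AdjoinRoot (cyclotomic q (ZMod p))) V := Module.Finite.of_finite
  refine ⟨fun v w hv hw => ?_, ?_⟩
  · obtain ⟨e, he⟩ := exists_equiv_apply_eq (K := AdjoinRoot (cyclotomic q (ZMod p))) hv hw
    refine ⟨e.toAddEquiv, he, fun u => ?_⟩
    show e (C u) = C (e u)
    rw [← hroot, map_smul, hroot]
  · haveI : CharP (AdjoinRoot (cyclotomic q (ZMod p))) p :=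
      charP_of_injective_algebraMap (RingHom.injective
        (algebraMap (ZMod p) (AdjoinRoot (cyclotomic q (ZMod p))))) p
    let b := Module.finBasis (AdjoinRoot (cyclotomic q (ZMod p))) V
    let T : V →+ V :=
      { toFun := fun u => ∑ i, (b.repr u i) ^ p • b i
        map_zero' := by simp [zero_pow hp.ne_zero]
        map_add' := fun u u' => by
          simp [add_pow_char, add_smul, Finset.sum_add_distrib] }
    have hinj : Function.Injective T := by
      intro u u' h
      refine b.repr.injective (Finsupp.ext fun i => ?_)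
      have h2 := congrArg (fun z => b.repr z i) h
      simp only [T, AddMonoidHom.coe_mk, ZeroHom.coe_mk] at h2
      rw [b.repr_sum_self, b.repr_sum_self] at h2
      exact frobenius_inj _ p h2
    refine ⟨AddEquiv.ofBijective T (Finite.injective_iff_bijective.1 hinj), fun u => ?_⟩
    show T (C u) = (C ^ p) (T u)
    have hpow : ∀ (n : ℕ) (z : V),
        (C ^ n) z = AdjoinRoot.root (cyclotomic q (ZMod p)) ^ n • z := by
      intro n
      induction n with
      | zero => intro z; rw [pow_zero, pow_zero, one_smul]; rfl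
      | succ n ih => intro z; rw [pow_succ', pow_succ', Module.End.mul_apply, ih, ← hroot, mul_smul]
    rw [hpow]
    simp only [T, AddMonoidHom.coe_mk, ZeroHom.coe_mk, ← hroot, map_smul, Finsupp.smul_apply,
      smul_eq_mul, mul_pow, mul_smul, Finset.smul_sum]

end Converse

end Cfsg.Agent.ThreeOrbits
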